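import Groth.Agent.QCoh.PushLin
import Groth.Prelude.Def_Canon

/-! Dualizing pairs along affine morphisms. -/

noncomputable section

universe u

set_option backward.isDefEq.respectTransparency false
set_option backward.isDefEq.respectTransparency.types false
set_option linter.style.haveILetI false
set_option maxHeartbeats 1000000

open CategoryTheory CategoryTheory.Limits AlgebraicGeometry TopologicalSpace Opposite

namespace Groth.Agent.DualFin

variable (A : Type u) [CommRing A] {X Z : Scheme.{u}} [X.Over (Spec (CommRingCat.of A))]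
  [Z.Over (Spec (CommRingCat.of A))] (π : X ⟶ Z) [IsAffineHom π]

/-- Linear comparison of cohomology along an affine morphism, natural in quasi-coherent modules. -/
theorem exists_pushHH (hπ : π ≫ (Z ↘ Spec (CommRingCat.of A)) = X ↘ Spec (CommRingCat.of A)) (i : ℕ) :
    ∃ Φ : ∀ F : X.Modules, Coh.IsQCoh F → (Coh.HH X F i ≃ₗ[A] Coh.HH Z ((Coh.push π).obj F) i),
      ∀ (F G : X.Modules) (hF : Coh.IsQCoh F) (hG : Coh.IsQCoh G) (φ : F ⟶ G) (x : Coh.HH X F i),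
        Φ G hG (Canon.HHlin A φ i x) = Canon.HHlin A ((Coh.push π).map φ) i (Φ F hF x) := by
  have hb : QCoh.Ab.PreimageBasis π.base (QCoh.stdCovers X) := fun U y hy => by
    obtain ⟨_, ⟨W, hW, rfl⟩, hyW, hWU⟩ := Z.isBasis_affineOpens.exists_subset_of_mem_open hy U.2
    exact ⟨W, hWU, hyW, hW.preimage π⟩
  obtain ⟨e, he⟩ := QCoh.Ab.H_push_natural π.base (QCoh.stdCovers X) hb i
  have hρ : ∀ a, Coh.toGlobal (X ↘ Spec (CommRingCat.of A)) a =
      π.appTop (Coh.toGlobal (Z ↘ Spec (CommRingCat.of A)) a) := fun a => by rw [← hπ]; rfl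
  refine ⟨fun F hF => AddEquiv.toLinearEquiv (e (QCoh.abSheaf F) (QCoh.stdCovers_acyclic hF)) fun a x => ?_,
    fun F G hF hG φ x => ?_⟩
  · refine (he _ _ (QCoh.stdCovers_acyclic hF) (QCoh.stdCovers_acyclic hF)
      (Coh.smulAb F (Coh.toGlobal (X ↘ Spec (CommRingCat.of A)) a)) x).trans ?_
    rw [hρ a, QCoh.smulAb_push]
    rfl
  · exact he _ _ (QCoh.stdCovers_acyclic hF) (QCoh.stdCovers_acyclic hG) _ x

/-- A module representing `Hom(π_* -, ω_Z)` carries a dualizing trace. -/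
theorem isRDual_of_represents (hπ : π ≫ (Z ↘ Spec (CommRingCat.of A)) = X ↘ Spec (CommRingCat.of A))
    (hpush : ∀ F : X.Modules, Coh.IsQCoh F → Coh.IsQCoh ((Coh.push π).obj F)) {r : ℕ}
    {ωZ : Z.Modules} {trZ : Coh.HH Z ωZ r →ₗ[A] A} (hZ : Canon.IsRDualOver A Z r ωZ trZ)
    {ωX : X.Modules} (hωX : Coh.IsQCoh ωX) (τ : (Coh.push π).obj ωX ⟶ ωZ)
    (huniv : ∀ F : X.Modules, Coh.IsQCoh F →
      Function.Bijective (fun φ : F ⟶ ωX => (Coh.push π).map φ ≫ τ)) :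
    ∃ trX : Coh.HH X ωX r →ₗ[A] A, Canon.IsRDualOver A X r ωX trX := by
  obtain ⟨Φ, hΦ⟩ := exists_pushHH A π hπ r
  refine ⟨(trZ ∘ₗ Canon.HHlin A τ r) ∘ₗ (Φ ωX hωX).toLinearMap, hωX, fun F hF => ?_⟩
  have h : Canon.dualityMap A X r ωX ((trZ ∘ₗ Canon.HHlin A τ r) ∘ₗ (Φ ωX hωX).toLinearMap) F =
      (fun l : Coh.HH Z ((Coh.push π).obj F) r →ₗ[A] A => l ∘ₗ (Φ F hF).toLinearMap) ∘
        Canon.dualityMap A Z r ωZ trZ ((Coh.push π).obj F) ∘ fun φ => (Coh.push π).map φ ≫ τ := by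
    funext φ
    ext x
    show trZ (Canon.HHlin A τ r (Φ ωX hωX (Canon.HHlin A φ r x))) =
      trZ (Sheaf.H.map ((SheafOfModules.toSheaf Z.ringCatSheaf).map ((Coh.push π).map φ ≫ τ)) r (Φ F hF x))
    rw [hΦ F ωX hF hωX φ x, Functor.map_comp, Sheaf.H.map_comp_apply]
    rfl
  rw [h]
  exact ((LinearEquiv.congrLeft A A (Φ F hF).symm).bijective.comp (hZ.2 _ (hpush F hF))).comp (huniv F hF)

/-- The trace morphism `π_* ω_X ⟶ ω_Z` of two dualizing pairs. -/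
theorem exists_traceHom (hπ : π ≫ (Z ↘ Spec (CommRingCat.of A)) = X ↘ Spec (CommRingCat.of A))
    (hpush : ∀ F : X.Modules, Coh.IsQCoh F → Coh.IsQCoh ((Coh.push π).obj F)) {r : ℕ}
    {ωZ : Z.Modules} {trZ : Coh.HH Z ωZ r →ₗ[A] A} (hZ : Canon.IsRDualOver A Z r ωZ trZ)
    {ωX : X.Modules} {trX : Coh.HH X ωX r →ₗ[A] A} (hX : Canon.IsRDualOver A X r ωX trX) :
    ∃ τ : (Coh.push π).obj ωX ⟶ ωZ, ∀ F : X.Modules, Coh.IsQCoh F →
      Function.Bijective (fun φ : F ⟶ ωX => (Coh.push π).map φ ≫ τ) := by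
  obtain ⟨Φ, hΦ⟩ := exists_pushHH A π hπ r
  obtain ⟨τ, hτ⟩ := (hZ.2 _ (hpush ωX hX.1)).2 (trX ∘ₗ (Φ ωX hX.1).symm.toLinearMap)
  refine ⟨τ, fun F hF => ?_⟩
  have hτ' : ∀ y, trZ (Canon.HHlin A τ r y) = trX ((Φ ωX hX.1).symm y) := fun y => LinearMap.congr_fun hτ y
  have h : (fun l : Coh.HH Z ((Coh.push π).obj F) r →ₗ[A] A => l ∘ₗ (Φ F hF).toLinearMap) ∘
      Canon.dualityMap A Z r ωZ trZ ((Coh.push π).obj F) ∘ (fun φ => (Coh.push π).map φ ≫ τ) =
      Canon.dualityMap A X r ωX trX F := by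
    funext φ
    ext x
    show trZ (Sheaf.H.map ((SheafOfModules.toSheaf Z.ringCatSheaf).map ((Coh.push π).map φ ≫ τ)) r (Φ F hF x)) =
      trX (Canon.HHlin A φ r x)
    rw [Functor.map_comp, Sheaf.H.map_comp_apply]
    refine (hτ' _).trans (congrArg trX ((LinearEquiv.symm_apply_eq _).2 ?_))
    exact (hΦ F ωX hF hX.1 φ x).symm
  have hb := hX.2 F hF
  rw [← h] at hb
  have hinj : Function.Bijective ((fun l : Coh.HH Z ((Coh.push π).obj F) r →ₗ[A] A => l ∘ₗ (Φ F hF).toLinearMap) ∘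
      Canon.dualityMap A Z r ωZ trZ ((Coh.push π).obj F)) :=
    (LinearEquiv.congrLeft A A (Φ F hF).symm).bijective.comp (hZ.2 _ (hpush F hF))
  exact (Function.Bijective.of_comp_iff' hinj _).1 hb

end Groth.Agent.DualFin
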