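import Groth.Agent.DualFin.Basic
import Groth.Agent.CohLimX.Basic
import Groth.Agent.InvX.Frame
import Groth.Agent.QCoh.RpushCoh
import Groth.Agent.Lib.CurveDeg

/-! A module representing `Hom(π_* -, L)` for finite `π` and invertible `L` is coherent. -/

noncomputable section

universe u

set_option backward.isDefEq.respectTransparency false
set_option backward.isDefEq.respectTransparency.types false
set_option linter.style.haveILetI false
set_option maxHeartbeats 1000000

open CategoryTheory CategoryTheory.Limits AlgebraicGeometry TopologicalSpace Opposite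

namespace Groth.Agent.DualFin

variable {X Z : Scheme.{u}}

/-- Restriction of sections of an invertible module to a nonempty open of an integral scheme is injective. -/
theorem eq_zero_of_res [IsIntegral Z] {L : Z.Modules} (hL : PicF.IsInvertible L) {W D : Z.Opens} (hD : D ≤ W)
    [Nonempty D] (s : Γ(L, W)) (hs : AModX.res L hD s = 0) : s = 0 := by
  refine AModX.eq_of_locally _ _ fun p hp => ?_
  obtain ⟨U, hpU, e, he⟩ := InvX.exists_frame hL p
  refine ⟨W ⊓ U, inf_le_left, ⟨hp, hpU⟩, ?_⟩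
  obtain ⟨r, hr⟩ := he.exists_coord (inf_le_right : W ⊓ U ≤ U) (AModX.res L inf_le_left s)
  haveI : Nonempty (W ⊓ U ⊓ D : Z.Opens) := by
    obtain ⟨x, hx⟩ := nonempty_preirreducible_inter (W ⊓ U).2 D.2 ⟨p, hp, hpU⟩
      ⟨_, (Classical.arbitrary D).2⟩
    exact ⟨⟨x, hx⟩⟩
  have h0 : AModX.res L (inf_le_left : W ⊓ U ⊓ D ≤ W ⊓ U) (AModX.res L inf_le_left s) = 0 := by
    rw [AModX.res_res, ← AModX.res_res hD (inf_le_right : W ⊓ U ⊓ D ≤ D) s, hs]
    exact map_zero _
  rw [hr, AModX.res_smul, AModX.res_res] at h0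
  have h1 : AModX.resR (inf_le_left : W ⊓ U ⊓ D ≤ W ⊓ U) r = 0 :=
    (he _ (inf_le_left.trans inf_le_right)).1 (h0.trans (zero_smul _ _).symm)
  have h2 : r = 0 := map_injective_of_isIntegral Z (homOfLE (inf_le_left : W ⊓ U ⊓ D ≤ W ⊓ U))
    (h1.trans (map_zero _).symm)
  rw [hr, h2, zero_smul]
  exact (map_zero _).symm

/-- The submodule generated by a section over the preimage of an affine open extends. -/
theorem exists_sub_generated [IsNoetherian X] {G : X.Modules} (hG : Coh.IsQCoh G) (V : X.Opens)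
    (hV : IsAffineOpen V) (s : Γ(G, V)) :
    ∃ (F : X.Modules) (j : F ⟶ G), Coh.IsQCoh F ∧ (∀ z : Γ(F, V), ∃ c : Γ(X, V), j.app V z = c • s) ∧
      ∃ z : Γ(F, V), j.app V z = s := by
  haveI : Coh.IsQCoh G := hG
  haveI : IsAffine (V : Scheme.{u}) := hV
  haveI : IsNoetherian (V : Scheme.{u}) :=
    { toIsLocallyNoetherian := isLocallyNoetherian_of_isOpenImmersion V.ι
      toCompactSpace := isCompact_iff_compactSpace.1 hV.isCompact }
  have hW : V.ι ''ᵁ ⊤ = V := V.ι_image_top
  let s' : Γ(G, V.ι ''ᵁ ⊤) := G.presheaf.map (homOfLE hW.le).op s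
  let φ : Coh.structureModule (V : Scheme.{u}) ⟶ G.restrict V.ι := (ParaFX.homSectionsEquiv (G.restrict V.ι)).symm s'
  have hGV : Coh.IsQCoh (G.restrict V.ι) := QCoh.isQCoh_restrict V.ι hG
  have hF' : Coh.IsCoh (Abelian.coimage φ) :=
    QCoh.isCoh_cokernel (QCoh.isQCoh_kernel QCoh.isQCoh_structureModule hGV φ) QCoh.isCoh_structureModule' (kernel.ι φ)
  haveI : Coh.IsQCoh (Abelian.coimage φ) := hF'.1
  obtain ⟨F, j, e, -, hq, -, he⟩ := S10848.result V hV.isCompact G (Abelian.coimage φ)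
    hF'.2 (Abelian.factorThruCoimage φ)
  let π : Coh.structureModule (V : Scheme.{u}) ⟶ F.restrict V.ι := cokernel.π (kernel.ι φ) ≫ e.inv
  have hπj : π ≫ (Scheme.Modules.restrictFunctor V.ι).map j = φ :=
    (Category.assoc _ _ _).trans ((congrArg (cokernel.π (kernel.ι φ) ≫ ·) ((Iso.inv_comp_eq e).2 he.symm)).trans
      (cokernel.π_desc _ _ _))
  refine ⟨F, j, hq, fun z => ?_, ?_⟩
  · haveI : Epi π := epi_comp _ _
    obtain ⟨c, hc⟩ := QCoh.app_surjective_of_epi QCoh.isQCoh_structureModule (QCoh.isQCoh_restrict V.ι hq) π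
      (isAffineOpen_top (V : Scheme.{u})) (show Γ(F.restrict V.ι, ⊤) from F.presheaf.map (homOfLE hW.le).op z)
    refine ⟨X.presheaf.map (homOfLE hW.ge).op ((V.ι.appIso ⊤).inv c), ?_⟩
    have h1 : j.app (V.ι ''ᵁ ⊤) (F.presheaf.map (homOfLE hW.le).op z) = φ.app ⊤ c := by
      refine Eq.trans ?_ (congrArg (fun ψ : Coh.structureModule (V : Scheme.{u}) ⟶ G.restrict V.ι => ψ.app ⊤ c) hπj)
      exact congrArg (fun y => ((Scheme.Modules.restrictFunctor V.ι).map j).app ⊤ y) hc.symm
    have h2 : φ.app ⊤ c = (show Γ(X, V.ι ''ᵁ ⊤) from (V.ι.appIso ⊤).inv c) • s' := by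
      have hs : φ.app ⊤ (show Γ(Coh.structureModule (V : Scheme.{u}), ⊤) from (1 : Γ(V.toScheme, ⊤))) = s' :=
        Equiv.apply_symm_apply (ParaFX.homSectionsEquiv (G.restrict V.ι)) s'
      conv_rhs => rw [← hs]
      exact (congrArg (φ.app ⊤) (mul_one (show Γ(V.toScheme, (⊤ : V.toScheme.Opens)) from c)).symm).trans
        (Scheme.Modules.Hom.app_smul (U := ⊤) φ (show Γ(V.toScheme, ⊤) from c) _)
    have h3 := congrArg (G.presheaf.map (homOfLE hW.ge).op) (h1.trans h2)
    have h4 : G.presheaf.map (homOfLE hW.ge).op (G.presheaf.map (homOfLE hW.le).op s) = s :=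
      (QCoh.map_map _ _ s).trans (ConcreteCategory.congr_hom (G.presheaf.map_id (op V)) s)
    have h5 : F.presheaf.map (homOfLE hW.ge).op (F.presheaf.map (homOfLE hW.le).op z) = z :=
      (QCoh.map_map _ _ z).trans (ConcreteCategory.congr_hom (F.presheaf.map_id (op V)) z)
    refine Eq.trans ?_ (h3.trans ?_)
    · conv_lhs => rw [← h5]
      exact ConcreteCategory.congr_hom (j.mapPresheaf.naturality (homOfLE hW.ge).op) _
    · refine (G.map_smul _ _ _).trans ?_
      exact congrArg _ h4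
  · exact CohLimX.mem_range_of_factor hW s j π hπj

variable (π : X ⟶ Z)

/-- A representing module is coherent. -/
theorem isCoh_of_represents [IsFinite π] [IsLocallyNoetherian Z] [IsIntegral Z] [IsNoetherian X]
    {L : Z.Modules} (hL : PicF.IsInvertible L) {ω : X.Modules} (hω : Coh.IsQCoh ω)
    (τ : (Coh.push π).obj ω ⟶ L)
    (hinj : ∀ F : X.Modules, Coh.IsQCoh F → Function.Injective (fun φ : F ⟶ ω => (Coh.push π).map φ ≫ τ)) :
    Coh.IsCoh ω := by
  refine ⟨hω, QCoh.isFT_of_finite hω (fun U : {U : Z.Opens // IsAffineOpen U} => π ⁻¹ᵁ U.1) ?_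
    (fun U => U.2.preimage π) fun U => ?_⟩
  · refine IsOpenCover.mk (top_le_iff.1 fun x _ => ?_)
    obtain ⟨_, ⟨U, hU, rfl⟩, hx, -⟩ := Z.isBasis_affineOpens.exists_subset_of_mem_open (Set.mem_univ (π x)) isOpen_univ
    exact Opens.mem_iSup.2 ⟨⟨U, hU⟩, hx⟩
  obtain ⟨U, hU⟩ := U
  rcases isEmpty_or_nonempty ↥U with hUe | hUne
  · haveI : Subsingleton Γ(ω, π ⁻¹ᵁ U) := ⟨fun a b => AModX.eq_of_locally _ _ fun p hp => (hUe.false ⟨π p, hp⟩).elim⟩
    infer_instance
  let R := Γ(Z, U)
  let C := Γ(X, π ⁻¹ᵁ U)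
  let N := Γ(L, U)
  let M := Γ(ω, π ⁻¹ᵁ U)
  haveI : IsNoetherianRing R := IsLocallyNoetherian.component_noetherian ⟨U, hU⟩
  letI : Algebra R C := (π.app U).hom.toAlgebra
  haveI : Module.Finite R C := π.finite_app U hU
  haveI : Module.Finite R N := QCoh.finite_sections (CurveDeg.isCoh_of_isInvertible hL) hU
  letI : Module R M := Module.compHom M (π.app U).hom
  haveI : IsScalarTower R C M := ⟨fun r c m => by
    show (π.app U r * c) • m = π.app U r • c • m
    rw [mul_smul]⟩
  have hlin : ∀ (r : R) (x : M), τ.app U (π.app U r • x) = r • τ.app U x := fun r x =>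
    Scheme.Modules.Hom.app_smul (U := U) τ r x
  let Φ : M →ₗ[R] (C →ₗ[R] N) :=
    { toFun := fun m =>
        { toFun := fun c => τ.app U (c • m)
          map_add' := fun c c' => by rw [add_smul]; exact map_add _ _ _
          map_smul' := fun r c => by
            show τ.app U ((π.app U r * c) • m) = r • τ.app U (c • m)
            rw [mul_smul, hlin] }
      map_add' := fun m m' => LinearMap.ext fun c => by
        show τ.app U (c • (m + m')) = τ.app U (c • m) + τ.app U (c • m')
        rw [smul_add]; exact map_add _ _ _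
      map_smul' := fun r m => LinearMap.ext fun c => by
        show τ.app U (c • (π.app U r • m)) = r • τ.app U (c • m)
        rw [smul_comm, hlin] }
  have hΦ : Function.Injective Φ := (injective_iff_map_eq_zero Φ).2 fun m hm => by
    have hm' : ∀ c : C, τ.app U (c • m) = 0 := fun c => LinearMap.congr_fun hm c
    obtain ⟨F, j, hF, hgen, z₀, hz₀⟩ := exists_sub_generated hω (π ⁻¹ᵁ U) (hU.preimage π) m
    have hψU : ∀ z : Γ((Coh.push π).obj F, U), ((Coh.push π).map j ≫ τ).app U z = 0 := fun z => by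
      obtain ⟨c, hc⟩ := hgen z
      show τ.app U (j.app (π ⁻¹ᵁ U) z) = 0
      rw [hc]; exact hm' c
    have hψ : (Coh.push π).map j ≫ τ = 0 := by
      set ψ := (Coh.push π).map j ≫ τ with hψdef
      have hq : Coh.IsQCoh ((Coh.push π).obj F) := QCoh.isQCoh_pushforward π hF
      refine Scheme.Modules.hom_ext _ _ fun W => ?_
      ext z
      show ψ.app W z = 0
      by_cases hW : Nonempty ↥W
      · obtain ⟨x, hxW, hxU⟩ := nonempty_preirreducible_inter W.2 U.2 ⟨_, (Classical.arbitrary ↥W).2⟩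
          ⟨_, (Classical.arbitrary ↥U).2⟩
        obtain ⟨g, hgW, hxg⟩ := hU.exists_basicOpen_le (⟨x, hxW⟩ : ↥W) hxU
        haveI : Nonempty (Z.basicOpen g : Z.Opens) := ⟨⟨x, hxg⟩⟩
        refine eq_zero_of_res hL hgW _ ?_
        rw [← AModX.app_res]
        obtain ⟨n, t, ht⟩ := QCoh.exists_pow_smul_eq_map hq hU g (AModX.res _ hgW z)
        have h1 : ψ.app (Z.basicOpen g) (((Coh.push π).obj F).presheaf.map (homOfLE (Z.basicOpen_le g)).op t) = 0 := by
          refine (ConcreteCategory.congr_hom (ψ.mapPresheaf.naturality (homOfLE (Z.basicOpen_le g)).op) t).trans ?_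
          rw [ConcreteCategory.comp_apply]
          refine (congrArg _ (hψU t)).trans (map_zero _)
        rw [ht, Scheme.Modules.Hom.app_smul] at h1
        exact ((show IsUnit (show Γ(Z, Z.basicOpen g) from Z.presheaf.map (homOfLE (Z.basicOpen_le g)).op g) from
          Z.toRingedSpace.isUnit_res_basicOpen g).pow n).smul_eq_zero.1 h1
      · exact AModX.eq_of_locally _ _ fun p hp => (hW ⟨⟨p, hp⟩⟩).elim
    have hj : j = 0 := hinj F hF (show (Coh.push π).map j ≫ τ = (Coh.push π).map 0 ≫ τ by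
      rw [hψ, Functor.map_zero, zero_comp])
    rw [← hz₀, hj]
    rfl
  haveI : IsNoetherian R (C →ₗ[R] N) := isNoetherian_of_isNoetherianRing_of_finite R _
  haveI : Module.Finite R M := Module.Finite.of_injective Φ hΦ
  exact Module.Finite.of_restrictScalars_finite R C M

end Groth.Agent.DualFin
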